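import Mathlib
import Groth.Prelude.Def_EtMil

/-!
Flat modules over Milnor squares (Ferrand): flatness descends from the two corners.
-/

set_option autoImplicit false
universe u

open TensorProduct

namespace Groth.Agent.MilnorFlatLib

set_option maxHeartbeats 400000

variable {R : Type u} [CommRing R] (L : Type u) [AddCommGroup L] [Module R L]

/-- Injective maps of modules over `C` stay injective after tensoring over `R` with `L` when
`C ⊗ L` is flat over `C`. -/
lemma rTensor_injective_of_tower {C : Type u} [CommRing C] [Algebra R C]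
    [Module.Flat C (C ⊗[R] L)] {M N : Type u} [AddCommGroup M] [Module R M] [Module C M]
    [IsScalarTower R C M] [AddCommGroup N] [Module R N] [Module C N] [IsScalarTower R C N]
    (f : M →ₗ[C] N) (hf : Function.Injective f) :
    Function.Injective ((f.restrictScalars R).rTensor L) := by
  let eM := AlgebraTensorModule.cancelBaseChange R C C M L
  let eN := AlgebraTensorModule.cancelBaseChange R C C N L
  have key : ∀ z, (f.restrictScalars R).rTensor L (eM z) = eN (f.rTensor (C ⊗[R] L) z) := by
    intro z
    induction z using TensorProduct.induction_on with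
    | zero => simp only [map_zero]
    | add x y hx hy => simp only [map_add, hx, hy]
    | tmul m w =>
      induction w using TensorProduct.induction_on with
      | zero => simp only [TensorProduct.tmul_zero, map_zero]
      | add x y hx hy => simp only [TensorProduct.tmul_add, map_add, hx, hy]
      | tmul c l =>
        simp only [eM, eN, AlgebraTensorModule.cancelBaseChange_tmul, LinearMap.rTensor_tmul,
          LinearMap.restrictScalars_apply, map_smul]
  intro x y h
  obtain ⟨x, rfl⟩ := eM.surjective x
  obtain ⟨y, rfl⟩ := eM.surjective y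
  rw [key, key] at h
  rw [Module.Flat.rTensor_preserves_injective_linearMap f hf (eN.injective h)]

/-- Injective maps between modules killed by the kernel of a surjection `R → C` stay injective
after tensoring with `L` when `C ⊗ L` is flat over `C`. -/
lemma rTensor_injective_of_torsion (C : Type u) [CommRing C] [Algebra R C]
    (hC : Function.Surjective (algebraMap R C)) [Module.Flat C (C ⊗[R] L)]
    {M N : Type u} [AddCommGroup M] [Module R M] [AddCommGroup N] [Module R N]
    (hM : ∀ r, algebraMap R C r = 0 → ∀ x : M, r • x = 0)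
    (hN : ∀ r, algebraMap R C r = 0 → ∀ x : N, r • x = 0)
    (f : M →ₗ[R] N) (hf : Function.Injective f) : Function.Injective (f.rTensor L) := by
  let e := RingHom.quotientKerEquivOfSurjective hC
  let := (show Module.IsTorsionBySet R M (RingHom.ker (algebraMap R C)) from
    fun x a => hM a a.2 x).module
  let := (show Module.IsTorsionBySet R N (RingHom.ker (algebraMap R C)) from
    fun x a => hN a a.2 x).module
  let : Module C M := Module.compHom M e.symm.toRingHom
  let : Module C N := Module.compHom N e.symm.toRingHom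
  have hsm : ∀ r : R, e.symm (algebraMap R C r) = Ideal.Quotient.mk _ r := fun r =>
    e.symm_apply_eq.2 rfl
  have h1 : ∀ (r : R) (x : M), algebraMap R C r • x = r • x := fun r x => by
    change e.symm (algebraMap R C r) • x = _
    rw [hsm]
    rfl
  have h2 : ∀ (r : R) (x : N), algebraMap R C r • x = r • x := fun r x => by
    change e.symm (algebraMap R C r) • x = _
    rw [hsm]
    rfl
  have : IsScalarTower R C M := IsScalarTower.of_algebraMap_smul h1
  have : IsScalarTower R C N := IsScalarTower.of_algebraMap_smul h2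
  let fC : M →ₗ[C] N :=
    { toFun := f
      map_add' := map_add f
      map_smul' := fun c x => by
        obtain ⟨r, rfl⟩ := hC c
        simp only [h1, h2, map_smul, RingHom.id_apply] }
  exact rTensor_injective_of_tower L fC hf

variable {B A' A : Type u} [CommRing B] [CommRing A'] [CommRing A]
  [Algebra R B] [Algebra R A'] [Algebra B A] [Algebra A' A] [Algebra R A]
  [IsScalarTower R B A] [IsScalarTower R A' A]

lemma surjective_fst (hsq : EtMil.IsFibreSquare R B A' A) :
    Function.Surjective (algebraMap R B) := fun b => by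
  obtain ⟨a', ha'⟩ := hsq.1 (algebraMap B A b)
  obtain ⟨r, ⟨hr, -⟩, -⟩ := hsq.2 b a' ha'.symm
  exact ⟨r, hr⟩

lemma eq_of_fst_snd (hsq : EtMil.IsFibreSquare R B A' A) {r s : R}
    (h1 : algebraMap R B r = algebraMap R B s) (h2 : algebraMap R A' r = algebraMap R A' s) :
    r = s := by
  obtain ⟨t, -, ht⟩ := hsq.2 (algebraMap R B r) (algebraMap R A' r)
    (by rw [← IsScalarTower.algebraMap_apply, ← IsScalarTower.algebraMap_apply])
  exact (ht r ⟨rfl, rfl⟩).trans (ht s ⟨h1.symm, h2.symm⟩).symm

lemma exists_of_ker (hsq : EtMil.IsFibreSquare R B A' A) {a : A'} (ha : algebraMap A' A a = 0) :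
    ∃ r, algebraMap R B r = 0 ∧ algebraMap R A' r = a := by
  obtain ⟨r, ⟨h1, h2⟩, -⟩ := hsq.2 0 a (by rw [map_zero, ha])
  exact ⟨r, h1, h2⟩

lemma subtype_rTensor_injective {C : Type u} [CommRing C] [Algebra R C]
    [Module.Flat C (C ⊗[R] L)] (X : Ideal C) :
    Function.Injective ((X.restrictScalars R).subtype.rTensor L) := by
  have h := rTensor_injective_of_tower (R := R) L (Submodule.subtype X) Subtype.val_injective
  exact h

/-- The part of `ker (A' → A)` multiplying the kernel into `I * J`. -/
def colonIdeal (I P : Ideal A') : Ideal A' where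
  carrier := {i | i ∈ I ∧ ∀ i' ∈ I, i * i' ∈ P}
  add_mem' {a b} ha hb := ⟨add_mem ha.1 hb.1, fun i' hi' => by
    rw [add_mul]; exact add_mem (ha.2 i' hi') (hb.2 i' hi')⟩
  zero_mem' := ⟨zero_mem I, fun i' _ => by rw [zero_mul]; exact zero_mem P⟩
  smul_mem' c a ha := ⟨I.smul_mem c ha.1, fun i' hi' => by
    rw [smul_eq_mul, mul_assoc]; exact P.mul_mem_left c (ha.2 i' hi')⟩

lemma exists_ker_lift (hsq : EtMil.IsFibreSquare R B A' A) [Module.Flat B (B ⊗[R] L)]
    (J : Ideal R) (z : J ⊗[R] L) (hz : J.subtype.rTensor L z = 0) :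
    ∃ w : (J ⊓ LinearMap.ker (Algebra.linearMap R B) : Submodule R R) ⊗[R] L,
      (Submodule.inclusion inf_le_left).rTensor L w = z := by
  let φ : R →ₗ[R] B := Algebra.linearMap R B
  let X : Ideal B := J.map (algebraMap R B)
  let q : J →ₗ[R] X.restrictScalars R := (φ.comp J.subtype).codRestrict _
    fun j => Ideal.mem_map_of_mem _ j.2
  have hq : Function.Surjective q := fun ⟨b, hb⟩ => by
    obtain ⟨j, hj, rfl⟩ := (Ideal.mem_map_iff_of_surjective _ (surjective_fst hsq)).1 hb
    exact ⟨⟨j, hj⟩, rfl⟩
  have hqz : q.rTensor L z = 0 := by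
    apply subtype_rTensor_injective L X
    rw [map_zero, ← LinearMap.rTensor_comp_apply, LinearMap.subtype_comp_codRestrict,
      LinearMap.rTensor_comp_apply, hz, map_zero]
  have hex : Function.Exact (Submodule.inclusion inf_le_left :
      (J ⊓ LinearMap.ker φ : Submodule R R) →ₗ[R] J) q := by
    intro j
    refine ⟨fun h => ⟨⟨j.1, j.2, congrArg Subtype.val h⟩, rfl⟩, ?_⟩
    rintro ⟨k, rfl⟩
    exact Subtype.ext k.2.2
  exact (rTensor_exact L hex hq z).1 hqz

lemma quot_rTensor_injective (hsq : EtMil.IsFibreSquare R B A' A) [Module.Flat B (B ⊗[R] L)]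
    {M S : Type u} [AddCommGroup M] [Module R M] [AddCommGroup S] [Module R S]
    (u : M →ₗ[R] S) (PS : Submodule R S)
    (hk : ∀ r, algebraMap R B r = 0 → ∀ s : S, r • s ∈ PS) :
    Function.Injective (((PS.comap u).mapQ PS u le_rfl).rTensor L) := by
  refine rTensor_injective_of_torsion L B (surjective_fst hsq) (fun r hr x => ?_)
    (fun r hr x => ?_) _ ?_
  · obtain ⟨x, rfl⟩ := Submodule.mkQ_surjective _ x
    rw [← map_smul]
    refine (Submodule.Quotient.mk_eq_zero _).2 ?_
    rw [Submodule.mem_comap, map_smul]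
    exact hk r hr _
  · obtain ⟨x, rfl⟩ := Submodule.mkQ_surjective _ x
    rw [← map_smul]
    exact (Submodule.Quotient.mk_eq_zero PS).2 (hk r hr x)
  · rw [← LinearMap.ker_eq_bot, Submodule.ker_mapQ, Submodule.mkQ_map_self]

lemma exists_mem_of_mem_mul (hsq : EtMil.IsFibreSquare R B A' A) (J : Ideal R) {p : A'}
    (hp : p ∈ RingHom.ker (algebraMap A' A) * J.map (algebraMap R A')) :
    ∃ r ∈ J, algebraMap R B r = 0 ∧ algebraMap R A' r = p := by
  induction hp using Submodule.mul_induction_on' with
  | mem_mul_mem i hi m hm =>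
    rw [Ideal.map] at hm
    induction hm using Submodule.span_induction generalizing i with
    | mem y hy =>
      obtain ⟨j, hj, rfl⟩ := hy
      obtain ⟨r, hr1, hr2⟩ := exists_of_ker hsq (a := i) hi
      exact ⟨r * j, J.mul_mem_left r hj, by rw [map_mul, hr1, zero_mul], by rw [map_mul, hr2]⟩
    | zero => exact ⟨0, zero_mem J, map_zero _, by rw [map_zero, mul_zero]⟩
    | add x y _ _ hx hy =>
      obtain ⟨r, h1, h2, h3⟩ := hx i hi
      obtain ⟨s, k1, k2, k3⟩ := hy i hi
      exact ⟨r + s, add_mem h1 k1, by rw [map_add, h2, k2, add_zero],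
        by rw [map_add, h3, k3, mul_add]⟩
    | smul a y _ hy =>
      obtain ⟨r, h1, h2, h3⟩ := hy (i * a) (Ideal.mul_mem_right a _ hi)
      exact ⟨r, h1, h2, by rw [h3, smul_eq_mul, mul_assoc]⟩
  | add x _ y _ hx hy =>
    obtain ⟨r, h1, h2, h3⟩ := hx
    obtain ⟨s, k1, k2, k3⟩ := hy
    exact ⟨r + s, add_mem h1 k1, by rw [map_add, h2, k2, add_zero], by rw [map_add, h3, k3]⟩

lemma ker_lift_eq_zero (hsq : EtMil.IsFibreSquare R B A' A) [Module.Flat B (B ⊗[R] L)]
    [Module.Flat A' (A' ⊗[R] L)] (J : Ideal R)
    (w : (J ⊓ LinearMap.ker (Algebra.linearMap R B) : Submodule R R) ⊗[R] L)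
    (hw : (Submodule.subtype _).rTensor L w = 0) : w = 0 := by
  let Q : Submodule R R := J ⊓ LinearMap.ker (Algebra.linearMap R B)
  let ψ : R →ₗ[R] A' := Algebra.linearMap R A'
  let I : Ideal A' := RingHom.ker (algebraMap A' A)
  let P : Ideal A' := I * J.map (algebraMap R A')
  let S : Submodule R A' := (colonIdeal I P).restrictScalars R
  have hI : ∀ r, algebraMap R B r = 0 → algebraMap R A' r ∈ I := fun r hr => by
    rw [RingHom.mem_ker, ← IsScalarTower.algebraMap_apply, IsScalarTower.algebraMap_apply R B A,
      hr, map_zero]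
  let u : Q →ₗ[R] S := (ψ.comp Q.subtype).codRestrict S
    fun x => ⟨hI _ x.2.2, fun i' hi' => by
      rw [mul_comm]
      exact Ideal.mul_mem_mul hi' (Ideal.mem_map_of_mem _ x.2.1)⟩
  have hu : Function.Injective u := fun x y h => by
    refine Subtype.ext (eq_of_fst_snd hsq ?_ (congrArg Subtype.val h))
    rw [show algebraMap R B (x : R) = 0 from x.2.2, show algebraMap R B (y : R) = 0 from y.2.2]
  have hψw : (ψ.comp Q.subtype).rTensor L w = 0 := by
    rw [LinearMap.rTensor_comp_apply, hw, map_zero]
  have huw : u.rTensor L w = 0 := by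
    apply subtype_rTensor_injective L (colonIdeal I P)
    rw [map_zero, ← LinearMap.rTensor_comp_apply, LinearMap.subtype_comp_codRestrict]
    exact hψw
  let PS : Submodule R S := (P.restrictScalars R).comap S.subtype
  have hk : ∀ r, algebraMap R B r = 0 → ∀ s : S, r • s ∈ PS := fun r hr s => by
    rw [Submodule.mem_comap, map_smul, Submodule.subtype_apply, Submodule.restrictScalars_mem,
      Algebra.smul_def, mul_comm]
    exact s.2.2 _ (hI r hr)
  let P' : Submodule R Q := PS.comap u
  have hwb : P'.mkQ.rTensor L w = 0 := by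
    apply quot_rTensor_injective L hsq u PS hk
    rw [map_zero, ← LinearMap.rTensor_comp_apply, Submodule.mapQ_mkQ, LinearMap.rTensor_comp_apply,
      huw, map_zero]
  obtain ⟨w', hw'⟩ := (rTensor_exact L (LinearMap.exact_subtype_mkQ P')
    (Submodule.mkQ_surjective P') w).1 hwb
  let v : P' →ₗ[R] P.restrictScalars R :=
    ((ψ.comp Q.subtype).comp P'.subtype).codRestrict _ fun x => x.2
  have hv : Function.Bijective v := by
    refine ⟨fun x y h => Subtype.ext (hu (Subtype.ext (congrArg Subtype.val h :))),
      fun ⟨p, hp⟩ => ?_⟩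
    obtain ⟨r, hr, h1, h2⟩ := exists_mem_of_mem_mul hsq J hp
    refine ⟨⟨⟨r, hr, h1⟩, ?_⟩, Subtype.ext h2⟩
    change algebraMap R A' r ∈ P
    rwa [h2]
  suffices w' = 0 by rw [← hw', this, map_zero]
  apply (LinearEquiv.rTensor L (LinearEquiv.ofBijective v hv)).injective
  rw [map_zero]
  apply subtype_rTensor_injective L P
  rw [map_zero]
  change (P.restrictScalars R).subtype.rTensor L (v.rTensor L w') = 0
  rw [← LinearMap.rTensor_comp_apply, LinearMap.subtype_comp_codRestrict,
    LinearMap.rTensor_comp_apply, hw']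
  exact hψw

/-- Flatness descends along a Milnor square. -/
theorem flat_of_square (hsq : EtMil.IsFibreSquare R B A' A)
    [Module.Flat B (B ⊗[R] L)] [Module.Flat A' (A' ⊗[R] L)] : Module.Flat R L := by
  rw [Module.Flat.iff_rTensor_injective']
  intro J
  rw [injective_iff_map_eq_zero]
  intro z hz
  obtain ⟨w, rfl⟩ := exists_ker_lift L hsq J z hz
  rw [← LinearMap.rTensor_comp_apply, Submodule.subtype_comp_inclusion] at hz
  rw [ker_lift_eq_zero L hsq J w hz, map_zero]

/-- Elements killed in both corners multiply to zero. -/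
theorem mul_eq_zero_of_square (hsq : EtMil.IsFibreSquare R B A' A) {D : Type u} [CommRing D]
    [Algebra R D] {x y : D} (hx : ((1 : B) ⊗ₜ[R] x : B ⊗[R] D) = 0)
    (hy : ((1 : A') ⊗ₜ[R] y : A' ⊗[R] D) = 0) : x * y = 0 := by
  let φ : R →ₗ[R] B := Algebra.linearMap R B
  have hB : Function.Surjective φ := surjective_fst hsq
  have h0 : φ.rTensor D ((1 : R) ⊗ₜ[R] x) = 0 := by
    rw [LinearMap.rTensor_tmul]
    simpa [φ] using hx
  obtain ⟨w, hw⟩ := (rTensor_exact D (LinearMap.exact_subtype_ker_map φ) hB _).1 h0
  have hk : ∀ k : LinearMap.ker φ, (k : R) • y = 0 := by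
    intro k
    let I : Ideal A' := RingHom.ker (algebraMap A' A)
    have hkI : algebraMap R A' (k : R) ∈ I := by
      rw [RingHom.mem_ker, ← IsScalarTower.algebraMap_apply, IsScalarTower.algebraMap_apply R B A,
        show algebraMap R B (k : R) = 0 from k.2, map_zero]
    choose f hf1 hf2 using fun a : A' => exists_of_ker hsq
      (a := a * algebraMap R A' (k : R)) (I.mul_mem_left a hkI)
    let μ : A' →ₗ[R] R :=
      { toFun := f
        map_add' := fun a b => eq_of_fst_snd hsq (by simp [hf1]) (by simp [hf2, add_mul])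
        map_smul' := fun r a => eq_of_fst_snd hsq (by simp [hf1])
          (by simp [hf2, Algebra.smul_def, mul_assoc]) }
    have h1 : μ 1 = k := eq_of_fst_snd hsq ((hf1 1).trans (show algebraMap R B (k : R) = 0 from k.2).symm)
      ((hf2 1).trans (one_mul _))
    have h2 := congrArg (TensorProduct.lift ((LinearMap.lsmul R D).comp μ)) hy
    rw [map_zero, TensorProduct.lift.tmul, LinearMap.comp_apply, h1] at h2
    exact h2
  have hxw : x = TensorProduct.lid R D ((LinearMap.ker φ).subtype.rTensor D w) := by
    rw [hw, TensorProduct.lid_tmul, one_smul]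
  rw [hxw]
  clear hw hxw
  induction w using TensorProduct.induction_on with
  | zero => simp
  | add a b ha hb => simp only [map_add, add_mul, ha, hb, add_zero]
  | tmul k d =>
    rw [LinearMap.rTensor_tmul, TensorProduct.lid_tmul, Submodule.subtype_apply, smul_mul_assoc,
      ← mul_smul_comm, hk k, mul_zero]

end Groth.Agent.MilnorFlatLib
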